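import Mathlib.RingTheory.Localization.Free
import Mathlib.RingTheory.Spectrum.Prime.FreeLocus
import Mathlib.RingTheory.Finiteness.Descent
import Mathlib.RingTheory.Flat.Stability
import Mathlib.RingTheory.TensorProduct.Free
import Groth.Agent.ProjDescent13.Alg

/-!
# Finite projective modules are free near every prime, and descend
-/

set_option autoImplicit false

noncomputable section

universe u

open TensorProduct

namespace Groth.Agent.FinLocFreePush13

variable {A : Type u} [CommRing A] {M : Type u} [AddCommGroup M] [Module A M]

/-- Near every prime a finite projective module becomes free and finite. -/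
theorem exists_free_near [Module.Finite A M] [Module.Projective A M] (p : PrimeSpectrum A) :
    ∃ r ∉ p.asIdeal, ∀ (B : Type u) [CommRing B] [Algebra A B] [IsLocalization.Away r B],
      Module.Free B (B ⊗[A] M) := by
  haveI : Module.FinitePresentation A M := Module.finitePresentation_of_projective A M
  haveI : Module.Free (Localization.AtPrime p.asIdeal) (LocalizedModule p.asIdeal.primeCompl M) :=
    Module.free_of_flat_of_isLocalRing
  obtain ⟨r, hr, hfree, -⟩ := Module.FinitePresentation.exists_free_localizedModule_powers
    p.asIdeal.primeCompl (LocalizedModule.mkLinearMap p.asIdeal.primeCompl M)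
    (Localization.AtPrime p.asIdeal)
  refine ⟨r, hr, fun B _ _ _ => ?_⟩
  let L := Localization.Away r
  letI : Algebra L B :=
    (IsLocalization.Away.lift r (S := L) (IsLocalization.Away.algebraMap_isUnit (S := B) r)).toAlgebra
  haveI : IsScalarTower A L B := IsScalarTower.of_algebraMap_eq fun a => (IsLocalization.Away.lift_eq r _ a).symm
  haveI : Module.Free L (L ⊗[A] M) :=
    Module.Free.of_equiv ((LocalizedModule.isBaseChange (Submonoid.powers r) M).equiv.symm)
  exact Module.Free.of_equiv (TensorProduct.AlgebraTensorModule.cancelBaseChange A L B B M)

section descent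

variable {ι : Type} [Fintype ι] [DecidableEq ι] {C : ι → Type u} [∀ i, CommRing (C i)] [∀ i, Algebra A (C i)]
  [∀ i, Module.Flat A (C i)]

omit [DecidableEq ι] [∀ i, Module.Flat A (C i)] in
theorem finite_pi [∀ i, Module.Finite (C i) (C i ⊗[A] M)] :
    Module.Finite (∀ i, C i) ((∀ i, C i) ⊗[A] M) := by
  classical
  choose s hs using fun i => (Module.Finite.fg_top (R := C i) (M := C i ⊗[A] M))
  let emb : ∀ i, C i ⊗[A] M → (∀ i, C i) ⊗[A] M := fun i => (LinearMap.single A C i).rTensor M
  refine ⟨⟨Finset.univ.biUnion fun i => (s i).image (emb i), ?_⟩⟩
  rw [eq_top_iff]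
  rintro x -
  have hemb : ∀ i (z : C i ⊗[A] M), emb i z ∈
      Submodule.span (∀ i, C i) (↑(Finset.univ.biUnion fun i => (s i).image (emb i)) : Set ((∀ i, C i) ⊗[A] M)) := by
    intro i z
    have hz : z ∈ Submodule.span (C i) (↑(s i) : Set (C i ⊗[A] M)) := by rw [hs i]; trivial
    induction hz using Submodule.span_induction with
    | mem y hy =>
      exact Submodule.subset_span (Finset.mem_biUnion.2 ⟨i, Finset.mem_univ i, Finset.mem_image_of_mem _ hy⟩)
    | zero =>
      simp only [emb, map_zero]
      exact Submodule.zero_mem _
    | add y y' _ _ h h' =>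
      simp only [emb, map_add] at h h' ⊢
      exact Submodule.add_mem _ h h'
    | smul c y _ h =>
      have e : ∀ w, emb i (c • w) = (Pi.single i c : ∀ i, C i) • emb i w := fun w => by
        induction w using TensorProduct.induction_on with
        | zero => simp [emb]
        | tmul a m =>
          simp only [emb, TensorProduct.smul_tmul', LinearMap.rTensor_tmul, smul_eq_mul]
          congr 1
          funext j
          rcases eq_or_ne j i with rfl | hj
          · simp
          · simp [hj]
        | add y y' hy hy' =>
          simp only [emb] at hy hy' ⊢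
          rw [smul_add, map_add, map_add, smul_add, hy, hy']
      rw [e y]
      exact Submodule.smul_mem _ _ h
  induction x using TensorProduct.induction_on with
  | zero => exact Submodule.zero_mem _
  | add x y hx hy => exact Submodule.add_mem _ hx hy
  | tmul c m =>
    have e : c ⊗ₜ[A] m = ∑ i, emb i (c i ⊗ₜ m) := by
      simp only [emb, LinearMap.rTensor_tmul]
      rw [← TensorProduct.sum_tmul]
      congr 1
      exact (Finset.univ_sum_single c).symm
    rw [e]
    exact Submodule.sum_mem _ fun i _ => hemb i _

/-- Finite projective modules descend along a finite jointly surjective flat family. -/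
theorem finite_of_local (hC : QCart13.JointlySurj C A) [∀ i, Module.Finite (C i) (C i ⊗[A] M)] :
    Module.Finite A M :=
  haveI := ProjDescent13.faithfullyFlat_pi hC
  haveI := finite_pi (A := A) (M := M) (C := C)
  Module.Finite.of_finite_tensorProduct_of_faithfullyFlat (∀ i, C i)

end descent

end Groth.Agent.FinLocFreePush13

end
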