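import Groth.Agent.FinLocFreePush13.Main
import Groth.Agent.AlgSpDec.AffineLocal

/-!
# The two characterizations of finite locally free morphisms
-/

set_option autoImplicit false
set_option backward.isDefEq.respectTransparency false
set_option backward.isDefEq.respectTransparency.types false

noncomputable section

universe u

open CategoryTheory CategoryTheory.Limits AlgebraicGeometry Opposite AlgSp TopologicalSpace
open Groth.Agent.QCart13 Groth.Agent.AlgSpDec Groth.Agent.AlgSpLib

namespace Groth.Agent.FinLocFreePush13

variable {S : Scheme.{u}} {X Y : Sp S} {f : X ⟶ Y} (hrep : Representable f)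

theorem aff_bc_of_affine (ha : IsAffineMor f) (E : EtOver Y) (hE : Aff E) :
    IsAffine ((EtOver.bc hrep).obj E).obj.left.left := by
  haveI : IsAffine E.obj.left.left := hE
  haveI : IsAffineHom (EtOver.bcπ hrep E).left :=
    (repWith_isAffineHom_of_isAffineMor ha).2 E.obj.hom _ _ (hrep.isPullback E.obj.hom)
  exact isAffine_of_isAffineHom (EtOver.bcπ hrep E).left

/-- A morphism finite locally free on every affine etale object is finite locally free. -/
theorem repWith_finLocFree_of_affine_etale (hY : IsAlgSpace Y)
    (h : ∀ E : EtOver Y, Aff E → finLocFree (EtOver.bcπ hrep E).left) : IsFinLocFreeMor f := by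
  haveI := stable_finLocFree.{u}
  haveI := local_finLocFree.{u}
  haveI := descends_finLocFree.{u}
  obtain ⟨V, q, hq, hs⟩ := hY.atlas
  refine repWith_of_etale_cover isAffineHom_of_finLocFree hq hs (hrep.isPullback q)
    ((repWith_yon_map_iff _ _).2 ?_)
  rw [IsZariskiLocalAtTarget.iff_of_iSup_eq_top (P := finLocFree) (fun W : V.left.affineOpens => W.1)
    (iSup_affineOpens_eq_top _)]
  intro W
  let E := ProjDescent13.openObj q hq W.1
  obtain ⟨k, hk, hk'⟩ := ProjDescent13.hom_openObj q hq W.1
  let π' := EtOver.bcπ hrep E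
  have hw : hrep.fst E.obj.hom ≫ f = (yon S).map (π' ≫ k) ≫ q := by
    rw [hrep.w E.obj.hom, Functor.map_comp, Category.assoc]
    exact congrArg ((yon S).map π' ≫ ·) hk'
  let ℓ := hrep.lift (hrep.fst E.obj.hom) (π' ≫ k) hw
  have sq : IsPullback ((yon S).map π') ((yon S).map ℓ) ((yon S).map k) ((yon S).map (hrep.snd q)) := by
    refine IsPullback.flip (IsPullback.of_right ?_ ?_ (hrep.isPullback q))
    · have e1 : (yon S).map ℓ ≫ hrep.fst q = hrep.fst E.obj.hom := hrep.lift_fst _ _ _
      rw [e1, ← hk']
      exact hrep.isPullback E.obj.hom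
    · rw [← Functor.map_comp, ← Functor.map_comp]
      exact congrArg (yon S).map (hrep.lift_snd _ _ _)
  have sq' : IsPullback π'.left ℓ.left W.1.ι (hrep.snd q).left := by
    rw [← hk]
    exact (sq.of_map_of_faithful (yon S)).map (CategoryTheory.Over.forget S)
  have hsq := (isPullback_morphismRestrict (hrep.snd q).left W.1)
  have hmem : finLocFree π'.left := h E (ProjDescent13.aff_openObj q hq W.2)
  refine (finLocFree.arrow_mk_iso_iff ?_).1 hmem
  exact Arrow.isoMk (sq'.isoIsPullback _ _ hsq) (Iso.refl _) (by
    refine (sq'.isoIsPullback_hom_fst _ _ hsq).trans ?_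
    exact (Category.comp_id _).symm)

theorem iff_locallyFree_push (hY : IsAlgSpace Y) :
    IsFinLocFreeMor f ↔ IsAffineMor f ∧
      ∃ q : SheafOfModules.LocalGeneratorsData.{u + 1} (O' hrep), q.IsLocallyFreeData ∧ q.IsFiniteType := by
  constructor
  · intro hf
    have h : ∀ E : EtOver Y, Aff E → finLocFree (EtOver.bcπ hrep E).left := fun E _ =>
      hf.2 E.obj.hom _ _ (hrep.isPullback E.obj.hom)
    refine ⟨isAffineMor_of_repWith isAffineHom_of_finLocFree hf, exists_locallyFree hrep
      (fun E hE => (finite_projective_of_finLocFree hrep hE (h E hE)).1)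
      fun E hE => (finite_projective_of_finLocFree hrep hE (h E hE)).2⟩
  · rintro ⟨ha, q, hq, hq'⟩
    refine repWith_finLocFree_of_affine_etale hrep hY fun E hE => ?_
    haveI := aff_bc_of_affine hrep ha E hE
    obtain ⟨h1, h2⟩ := finite_projective_of_locallyFree hrep q hE
    exact finLocFree_of_finite_projective hrep hE

end Groth.Agent.FinLocFreePush13

end
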