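import Groth.Agent.FinLocFreePush13.Props
import Groth.Agent.FinLocFreePush13.Alg
import Groth.Agent.ProjDescent13.Retract
import Groth.Agent.ProjDescent13.Companion
import Groth.Agent.QCPush13.Main
import Groth.Agent.QCart13.Crit

/-!
# Finite locally free morphisms through the direct image of the structure sheaf
-/

set_option autoImplicit false
set_option backward.isDefEq.respectTransparency false
set_option backward.isDefEq.respectTransparency.types false

noncomputable section

universe u

open CategoryTheory CategoryTheory.Limits AlgebraicGeometry Opposite AlgSp TensorProduct TopologicalSpace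
open Groth.Agent.QCart13

namespace Groth.Agent.FinLocFreePush13

variable {S : Scheme.{u}} {X Y : Sp S}

/-- Sections of the structure sheaf. -/
def μ (E : EtOver X) : sectModEt (unitModEt X) E ≃ₗ[Fn E] Fn E where
  toFun x := (show (OEtRing X).obj.obj (op E) from x).down
  invFun a := (show sectModEt (unitModEt X) E from (ULift.up a : (OEtRing X).obj.obj (op E)))
  map_add' _ _ := rfl
  map_smul' _ _ := rfl
  left_inv _ := rfl
  right_inv _ := rfl

/-- The structure sheaf has base changes as its affine values. -/
theorem cart_unit (E : EtOver X) : Cart (unitModEt X) E := fun E' g _ => by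
  letI := algOf g
  letI := modOf (unitModEt X) g
  haveI := towerOf (unitModEt X) g
  refine IsBaseChange.of_equiv (((TensorProduct.AlgebraTensorModule.congr
    (LinearEquiv.refl (Fn E') (Fn E')) (μ E)).trans
      (TensorProduct.AlgebraTensorModule.rid (Fn E) (Fn E') (Fn E'))).trans (μ E').symm) fun x => ?_
  refine (LinearEquiv.symm_apply_eq _).2 ?_
  change μ E x • (1 : Fn E') = rmap g (μ E x)
  exact (Algebra.algebraMap_eq_smul_one _).symm

variable {f : X ⟶ Y} (hrep : Representable f)

/-- The direct image of the structure sheaf. -/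
abbrev O' : ModEt Y := (pushModEt hrep).obj (unitModEt X)

/-- The functions on a base change. -/
def PF (E : EtOver Y) : Type u := Fn ((EtOver.bc hrep).obj E)

instance (E : EtOver Y) : CommRing (PF hrep E) := inferInstanceAs (CommRing (Fn ((EtOver.bc hrep).obj E)))

instance (E : EtOver Y) : Algebra (Fn E) (PF hrep E) := (PushImage13.π hrep E).toAlgebra

/-- The sections of the direct image of the structure sheaf. -/
def ν (E : EtOver Y) : sectModEt (O' hrep) E ≃ₗ[Fn E] PF hrep E where
  toFun x := μ ((EtOver.bc hrep).obj E) x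
  invFun a := (μ ((EtOver.bc hrep).obj E)).symm a
  map_add' _ _ := rfl
  map_smul' a x := rfl
  left_inv _ := rfl
  right_inv _ := rfl

theorem cart_O' {E : EtOver Y} (hE : Aff E) [IsAffine ((EtOver.bc hrep).obj E).obj.left.left] :
    Cart (O' hrep) E := by
  obtain ⟨c⟩ := QCPush13.nonempty_dcov (hrep := hrep) (V := E)
  exact QCPush13.cart_push (unitModEt X) hE c fun W _ => cart_unit W

/-- Over an affine object a finite locally free morphism gives a finite projective algebra. -/
theorem finite_projective_of_finLocFree {E : EtOver Y} (hE : Aff E)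
    (h : finLocFree (EtOver.bcπ hrep E).left) :
    IsAffine ((EtOver.bc hrep).obj E).obj.left.left ∧ Module.Finite (Fn E) (PF hrep E) ∧
      Module.Projective (Fn E) (PF hrep E) := by
  haveI : IsAffine E.obj.left.left := hE
  haveI : IsFinite (EtOver.bcπ hrep E).left := h.1
  haveI : Flat (EtOver.bcπ hrep E).left := h.2.1
  haveI : LocallyOfFinitePresentation (EtOver.bcπ hrep E).left := h.2.2
  haveI hP : IsAffine ((EtOver.bc hrep).obj E).obj.left.left := isAffine_of_isAffineHom (EtOver.bcπ hrep E).left
  have h1 : (EtOver.bcπ hrep E).left.appTop.hom.Finite := (EtOver.bcπ hrep E).left.finite_appTop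
  haveI hfin : Module.Finite (Fn E) (PF hrep E) := h1
  haveI hflat : Module.Flat (Fn E) (PF hrep E) :=
    (HasRingHomProperty.iff_of_isAffine (P := @Flat)).1 (inferInstance : Flat (EtOver.bcπ hrep E).left)
  haveI : Algebra.FinitePresentation (Fn E) (PF hrep E) :=
    (HasRingHomProperty.iff_of_isAffine (P := @LocallyOfFinitePresentation)).1
      (inferInstance : LocallyOfFinitePresentation (EtOver.bcπ hrep E).left)
  haveI : Module.FinitePresentation (Fn E) (PF hrep E) :=
    Module.FinitePresentation.of_finite_of_finitePresentation (Fn E) (PF hrep E)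
  exact ⟨hP, hfin, Module.Flat.projective_of_finitePresentation⟩

/-- Over an affine object a finite projective algebra gives a finite locally free morphism. -/
theorem finLocFree_of_finite_projective {E : EtOver Y} (hE : Aff E)
    [IsAffine ((EtOver.bc hrep).obj E).obj.left.left] [Module.Finite (Fn E) (PF hrep E)]
    [Module.Projective (Fn E) (PF hrep E)] : finLocFree (EtOver.bcπ hrep E).left := by
  haveI : IsAffine E.obj.left.left := hE
  haveI : IsAffine (EtOver.bcObj hrep E).obj.left.left :=
    (inferInstance : IsAffine ((EtOver.bc hrep).obj E).obj.left.left)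
  haveI : Module.FinitePresentation (Fn E) (PF hrep E) := Module.finitePresentation_of_projective _ _
  haveI : Algebra.FinitePresentation (Fn E) (PF hrep E) :=
    (Module.FinitePresentation.iff_finitePresentation_of_finite (Fn E) (PF hrep E)).1 inferInstance
  refine ⟨(HasAffineProperty.iff_of_isAffine (P := @IsFinite)).2 ⟨inferInstance, ?_⟩,
    (HasRingHomProperty.iff_of_isAffine (P := @Flat)).2 ?_,
    (HasRingHomProperty.iff_of_isAffine (P := @LocallyOfFinitePresentation)).2 ?_⟩
  · exact (inferInstance : Module.Finite (Fn E) (PF hrep E))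
  · exact (inferInstance : Module.Flat (Fn E) (PF hrep E))
  · exact (inferInstance : Algebra.FinitePresentation (Fn E) (PF hrep E))

/-- Objects over which the direct image is finite free. -/
def FreeObj : Type (u + 1) :=
  {E : EtOver Y // IsAffine ((EtOver.bc hrep).obj E).obj.left.left ∧ Aff E ∧
    ∃ n : ℕ, Nonempty (Module.Basis (ULift.{u + 1} (Fin n)) (Fn E) (sectModEt (O' hrep) E))}

variable (haff : ∀ E : EtOver Y, Aff E → IsAffine ((EtOver.bc hrep).obj E).obj.left.left)
  (hfp : ∀ E : EtOver Y, Aff E → Module.Finite (Fn E) (PF hrep E) ∧ Module.Projective (Fn E) (PF hrep E))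

include haff hfp in
theorem exists_free_point (E : EtOver Y) (t : ↥E.obj.left.left) :
    ∃ (D : FreeObj hrep) (g : D.1 ⟶ E), t ∈ Set.range g.hom.left.left := by
  obtain ⟨W, hW, htW, -⟩ := exists_isAffineOpen_mem_and_subset (U := (⊤ : E.obj.left.left.Opens)) (x := t) trivial
  let E₁ := AlgSpDec.etOpen E W
  have hE₁ : Aff E₁ := hW
  let V := E₁.obj.left.left
  haveI : IsAffine V := hW
  obtain ⟨hfin, hproj⟩ := hfp E₁ hE₁
  obtain ⟨r, hr, hfree⟩ := exists_free_near (A := Fn E₁) (M := PF hrep E₁)
    ((isAffineOpen_top V).primeIdealOf ⟨(⟨t, htW⟩ : W.toScheme), trivial⟩)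
  let D₀ : V.Opens := V.basicOpen r
  have htD : (⟨t, htW⟩ : W.toScheme) ∈ D₀ := by
    rw [Scheme.mem_basicOpen V r _ (show (⟨t, htW⟩ : W.toScheme) ∈ (⊤ : V.Opens) from trivial)]
    letI := TopCat.Presheaf.algebra_section_stalk V.presheaf (⟨(⟨t, htW⟩ : W.toScheme), trivial⟩ : (⊤ : V.Opens))
    haveI := (isAffineOpen_top V).isLocalization_stalk ⟨(⟨t, htW⟩ : W.toScheme), trivial⟩
    exact IsLocalization.map_units (M := ((isAffineOpen_top V).primeIdealOf
      ⟨(⟨t, htW⟩ : W.toScheme), trivial⟩).asIdeal.primeCompl) (V.presheaf.stalk _) ⟨r, hr⟩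
  let D := AlgSpDec.etOpen E₁ D₀
  let i : D ⟶ E₁ := AlgSpDec.etOpenι E₁ D₀
  have hD : Aff D := (isAffineOpen_top V).basicOpen r
  letI := algOf i
  haveI : IsLocalization.Away r (Fn D) := by
    letI : Algebra Γ(V, ⊤) Γ(V, D₀) := (V.presheaf.map (homOfLE (V.basicOpen_le r)).op).hom.toAlgebra
    haveI hloc : IsLocalization.Away r Γ(V, D₀) := (isAffineOpen_top V).isLocalization_basicOpen r
    exact @ProjDescent13.away_transport (Fn E₁) (Fn E₁) Γ(V, D₀) (Fn D) _ _ _ _ _ (algOf i) (RingEquiv.refl _)
      D₀.topIso.symm.commRingCatIsoToRingEquiv (fun a => by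
        change (V.presheaf.map (homOfLE (V.basicOpen_le r)).op ≫ D₀.topIso.inv) a = D₀.ι.appTop a
        congr 2
        rw [Scheme.Opens.topIso_inv, ← Functor.map_comp, Scheme.Opens.ι_appTop]
        rfl) r hloc
  haveI := haff E₁ hE₁
  have hbc := bijective_bcMor (cart_O' hrep hE₁) (Over.mk i) hD
  let T : Over E₁ := Over.mk i
  haveI : Module.Free (Fn T.left) (Fn T.left ⊗[Fn E₁] PF hrep E₁) := hfree (Fn D)
  let e : Fn T.left ⊗[Fn E₁] PF hrep E₁ ≃ₗ[Fn T.left] sectModEt (O' hrep) T.left :=
    (TensorProduct.AlgebraTensorModule.congr (LinearEquiv.refl (Fn T.left) (Fn T.left)) (ν hrep E₁).symm).trans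
      (LinearEquiv.ofBijective (bcMor (O' hrep) T) hbc)
  have hfreeT : Module.Free (Fn T.left) (sectModEt (O' hrep) T.left) := Module.Free.of_equiv e
  haveI : Module.Free (Fn D) (sectModEt (O' hrep) D) := hfreeT
  haveI : Module.Finite (Fn D) (sectModEt (O' hrep) D) :=
    haveI := (hfp D hD).1
    Module.Finite.equiv (ν hrep D).symm
  obtain ⟨n, ⟨b⟩⟩ : ∃ n : ℕ, Nonempty (Module.Basis (Fin n) (Fn D) (sectModEt (O' hrep) D)) := by
    let b := Module.Free.chooseBasis (Fn D) (sectModEt (O' hrep) D)
    haveI : Finite (Module.Free.ChooseBasisIndex (Fn D) (sectModEt (O' hrep) D)) := inferInstance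
    obtain ⟨n, ⟨e⟩⟩ := Finite.exists_equiv_fin (Module.Free.ChooseBasisIndex (Fn D) (sectModEt (O' hrep) D))
    exact ⟨n, ⟨b.reindex e⟩⟩
  refine ⟨⟨D, haff D hD, hD, n, ⟨b.reindex Equiv.ulift.symm⟩⟩, i ≫ AlgSpDec.etOpenι E W, ?_⟩
  exact ⟨(⟨⟨t, htW⟩, htD⟩ : D₀.toScheme), rfl⟩

/-- A morphism of modules on a slice which is bijective on affine objects is an isomorphism. -/
theorem isIso_of_bijective_affine {E : EtOver Y} {F G : ModEtOn E} (φ : F ⟶ G)
    (h : ∀ T : Over E, Aff T.left → Function.Bijective (appOn φ T)) : IsIso φ := by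
  haveI : Mono φ := ⟨fun a b hab => ProjDescent13.hom_ext_affine a b fun T hT x =>
    (h T hT).1 (congrArg (fun k => appOn k T x) hab)⟩
  haveI : Epi φ := ⟨fun a b hab => ProjDescent13.hom_ext_affine a b fun T hT x => by
    obtain ⟨y, rfl⟩ := (h T hT).2 x
    exact congrArg (fun k => appOn k T y) hab⟩
  exact isIso_of_mono_of_epi φ

theorem bijective_appOn_of_isIso {E : EtOver Y} {F G : ModEtOn E} (φ : F ⟶ G) [IsIso φ] (T : Over E) :
    Function.Bijective (appOn φ T) := by
  refine ⟨fun x y h => ?_, fun y => ⟨appOn (inv φ) T y, ?_⟩⟩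
  · have h1 : appOn (φ ≫ inv φ) T x = appOn (φ ≫ inv φ) T y := congrArg (appOn (inv φ) T) h
    rwa [IsIso.hom_inv_id] at h1
  · exact (congrArg (fun k => appOn k T y) (IsIso.inv_hom_id φ) :)

variable {M : ModEt Y}

/-- A basis of the sections gives a trivialization. -/
theorem bijective_basis {E : EtOver Y} (hM : Cart M E) {ι : Type (u + 1)}
    (b : Module.Basis ι (Fn E) (sectModEt M E)) (T : Over E) (hT : Aff T.left) :
    Function.Bijective (appOn ((SheafOfModules.freeHomEquiv (M.over E)).symm
      fun i => ProjDescent13.baseSec M (b i)) T) := by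
  let φ := (SheafOfModules.freeHomEquiv (M.over E)).symm fun i => ProjDescent13.baseSec M (b i)
  let e : (ι →₀ Fn T.left) ≃ₗ[Fn T.left] sectModEt M T.left :=
    (b.baseChange (Fn T.left)).repr.symm.trans (LinearEquiv.ofBijective (bcMor M T) (bijective_bcMor hM T hT))
  have key : ∀ v, toSect M T (appOn φ T (eL T v)) = e v := fun v => by
    induction v using Finsupp.induction_linear with
    | zero => simp
    | add x y hx hy => simp only [map_add, hx, hy]
    | single i a =>
      rw [← pi_eL, Finsupp.linearCombination_single, ProjDescent13.gen_symm, toSect_smul]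
      simp only [e, LinearEquiv.trans_apply, Module.Basis.repr_symm_single, Module.Basis.baseChange_apply,
        map_smul, LinearEquiv.ofBijective_apply, LinearMap.liftBaseChange_tmul, res₀_apply, one_smul]
      rfl
  have h1 : Function.Bijective (fun v => toSect M T (appOn φ T (eL T v))) := by
    rw [funext key]
    exact e.bijective
  have h2 : Function.Bijective (fun v => appOn φ T (eL T v)) :=
    (Function.Bijective.of_comp_iff' (toSect_bijective M T) _).1 h1
  exact (Function.Bijective.of_comp_iff _ (⟨eL_injective T, eL_surjective T hT⟩ : Function.Bijective (eL T))).1 h2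

/-- The trivializations of a finite projective direct image. -/
def locData (D : FreeObj hrep) : ((O' hrep).over D.1).GeneratingSections :=
  haveI := D.2.1
  let b := D.2.2.2.choose_spec.some
  haveI : IsIso ((SheafOfModules.freeHomEquiv ((O' hrep).over D.1)).symm
      fun i => ProjDescent13.baseSec (O' hrep) (b i)) :=
    isIso_of_bijective_affine _ (bijective_basis (cart_O' hrep D.2.2.1) b)
  { I := ULift.{u + 1} (Fin D.2.2.2.choose)
    s := fun i => ProjDescent13.baseSec (O' hrep) (b i)
    epi := inferInstance }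

include haff hfp in
theorem coversTop_freeObj : (etTop Y).CoversTop fun D : FreeObj hrep => D.1 := fun E =>
  mem_etTop_of_exists _ fun t => by
    obtain ⟨D, g, ht⟩ := exists_free_point hrep haff hfp E t
    exact ⟨D.1, g, (Sieve.mem_ofObjects_iff _ _).2 ⟨D, ⟨𝟙 _⟩⟩, ht⟩

/-- The trivializations as local generators. -/
def lgd : SheafOfModules.LocalGeneratorsData.{u + 1} (O' hrep) where
  I := FreeObj hrep
  X D := D.1
  coversTop := coversTop_freeObj hrep haff hfp
  generators := locData hrep

include haff hfp in
theorem isLocallyFreeData_lgd : (lgd hrep haff hfp).IsLocallyFreeData := by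
  constructor
  intro D
  haveI := (show FreeObj hrep from D).2.1
  exact isIso_of_bijective_affine _
    (bijective_basis (cart_O' hrep (show FreeObj hrep from D).2.2.1) (show FreeObj hrep from D).2.2.2.choose_spec.some)

include haff hfp in
theorem isFiniteType_lgd : (lgd hrep haff hfp).IsFiniteType := by
  constructor
  intro D
  constructor
  exact inferInstanceAs (Finite (ULift.{u + 1} (Fin (show FreeObj hrep from D).2.2.2.choose)))

include haff hfp in
theorem exists_locallyFree :
    ∃ q : SheafOfModules.LocalGeneratorsData.{u + 1} (O' hrep), q.IsLocallyFreeData ∧ q.IsFiniteType :=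
  ⟨lgd hrep haff hfp, isLocallyFreeData_lgd hrep haff hfp, isFiniteType_lgd hrep haff hfp⟩

/-- A locally free finite direct image has finite projective values on affines. -/
theorem finite_projective_of_locallyFree
    (q : SheafOfModules.LocalGeneratorsData.{u + 1} (O' hrep)) [q.IsLocallyFreeData] [q.IsFiniteType]
    {E : EtOver Y} (hE : Aff E) [IsAffine ((EtOver.bc hrep).obj E).obj.left.left] :
    Module.Finite (Fn E) (PF hrep E) ∧ Module.Projective (Fn E) (PF hrep E) := by
  obtain ⟨c, hc⟩ := exists_cov hE (q.coversTop E)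
  haveI : ∀ i, Module.Flat (Fn E) (Fn (c.T i).left) := fun i => flat_over hE (c.aff i)
  have key : ∀ i, Module.Finite (Fn (c.T i).left) (Fn (c.T i).left ⊗[Fn E] PF hrep E) ∧
      Module.Projective (Fn (c.T i).left) (Fn (c.T i).left ⊗[Fn E] PF hrep E) := fun k => by
    obtain ⟨j, ⟨g⟩⟩ := (Sieve.mem_ofObjects_iff _ _).1 (hc k)
    let T : Over (q.X j) := Over.mk g
    haveI : Finite (q.generators j).I :=
      (SheafOfModules.LocalGeneratorsData.IsFiniteType.isFiniteType (p := q) j).finite
    haveI : IsIso (q.generators j).π := inferInstance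
    have hπ : Function.Bijective (appOn (q.generators j).π T) :=
      bijective_appOn_of_isIso (q.generators j).π T
    let e₁ : ((q.generators j).I →₀ Fn T.left) ≃ₗ[Fn T.left] ((O' hrep).over (q.X j)).val.obj (op T) :=
      (LinearEquiv.ofBijective (eL T) ⟨eL_injective T, eL_surjective T (c.aff k)⟩).trans
        (LinearEquiv.ofBijective (appOn (q.generators j).π T) hπ)
    let e₂ : ((O' hrep).over (q.X j)).val.obj (op T) ≃ₗ[Fn T.left] sectModEt (O' hrep) T.left :=
      LinearEquiv.ofBijective
        { toFun := toSect (O' hrep) T, map_add' := map_add _, map_smul' := toSect_smul (O' hrep) T }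
        (toSect_bijective (O' hrep) T)
    let e₃ : Fn (c.T k).left ⊗[Fn E] PF hrep E ≃ₗ[Fn (c.T k).left] sectModEt (O' hrep) (c.T k).left :=
      (TensorProduct.AlgebraTensorModule.congr (LinearEquiv.refl _ _) (ν hrep E).symm).trans
        (LinearEquiv.ofBijective _ (bijective_bcMor (cart_O' hrep hE) (c.T k) (c.aff k)))
    have h1 : Module.Finite (Fn T.left) (sectModEt (O' hrep) T.left) := Module.Finite.equiv (e₁.trans e₂)
    have h2 : Module.Projective (Fn T.left) (sectModEt (O' hrep) T.left) := Module.Projective.of_equiv' (e₁.trans e₂)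
    haveI : Module.Finite (Fn (c.T k).left) (sectModEt (O' hrep) (c.T k).left) := h1
    haveI : Module.Projective (Fn (c.T k).left) (sectModEt (O' hrep) (c.T k).left) := h2
    exact ⟨Module.Finite.equiv e₃.symm, Module.Projective.of_equiv' e₃.symm⟩
  haveI := fun i => (key i).1
  haveI := fun i => (key i).2
  exact ⟨finite_of_local (c.jointlySurj hE), ProjDescent13.projective_of_local (c.jointlySurj hE)⟩

end Groth.Agent.FinLocFreePush13

end
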