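import Groth.Agent.AlgSpDec.FinLocFree
import Groth.Agent.EtFound.Descent

/-!
# Formal properties of finite locally free morphisms of schemes
-/

set_option autoImplicit false
set_option backward.isDefEq.respectTransparency false
set_option backward.isDefEq.respectTransparency.types false

universe u

open CategoryTheory AlgebraicGeometry AlgSp MorphismProperty

namespace Groth.Agent.FinLocFreePush13

theorem stable_finLocFree : IsStableUnderBaseChange finLocFree.{u} :=
  have : IsStableUnderBaseChange ((@Flat : MorphismProperty Scheme.{u}) ⊓ (@LocallyOfFinitePresentation : MorphismProperty Scheme.{u})) := IsStableUnderBaseChange.inf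
  IsStableUnderBaseChange.inf (P := (@IsFinite : MorphismProperty Scheme.{u}))
theorem local_finLocFree : IsZariskiLocalAtTarget finLocFree.{u} :=
  haveI : IsStableUnderBaseChange finLocFree.{u} := stable_finLocFree
  IsZariskiLocalAtTarget.mk' (fun f U h => MorphismProperty.of_isPullback (isPullback_morphismRestrict f U).flip h) (fun {_ _} _f {_ι} U hU h => ⟨
   (IsZariskiLocalAtTarget.iff_of_iSup_eq_top (P := (@IsFinite : MorphismProperty Scheme.{u})) U hU).2 fun i => (h i).1,
   (IsZariskiLocalAtTarget.iff_of_iSup_eq_top (P := (@Flat : MorphismProperty Scheme.{u})) U hU).2 fun i => (h i).2.1,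
   (IsZariskiLocalAtTarget.iff_of_iSup_eq_top (P := (@LocallyOfFinitePresentation : MorphismProperty Scheme.{u})) U hU).2 fun i => (h i).2.2⟩)
theorem descends_finLocFree : DescendsAlong finLocFree.{u} (@Surjective ⊓ @Flat ⊓ @QuasiCompact) :=
  haveI := Groth.Agent.EtFound.fpqc_isFinite.{u}
  ⟨fun {_ _ _ _ _ _ _ _} sq hq h => ⟨MorphismProperty.of_isPullback_of_descendsAlong (P := (@IsFinite : MorphismProperty Scheme.{u})) sq hq h.1,
     MorphismProperty.of_isPullback_of_descendsAlong (P := (@Flat : MorphismProperty Scheme.{u})) sq hq h.2.1,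
     MorphismProperty.of_isPullback_of_descendsAlong (P := (@LocallyOfFinitePresentation : MorphismProperty Scheme.{u})) sq hq h.2.2⟩⟩

end Groth.Agent.FinLocFreePush13
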